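import Groth.Prelude.Def_EGA4b
import Groth.Prelude.Def_Found
import Groth.Agent.GeomFieldLib.Corollaries
import Groth.Agent.GeomLoc.Regular
import Mathlib.AlgebraicGeometry.Noetherian
import Mathlib.RingTheory.RingHom.Flat

/-!
# Fibrewise properties of ring maps

`FP Q A B`: flat, and `Q (K ⊗[A] B)` for all fields `K` essentially of finite type over `A`. For the
properties "Noetherian", "Noetherian normal", "regular" this is local on source and target, stable
under base change essentially of finite type and descends along faithfully flat maps.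
-/

set_option autoImplicit false
set_option linter.style.haveILetI false

universe u

open TensorProduct

namespace Groth.Agent.Fibres16.FibMor

/-- Properties of rings usable on fibres. -/
structure IsFibreProp (Q : ∀ (R : Type u) [CommRing R], Prop) : Prop where
  iso : ∀ (R R' : Type u) [CommRing R] [CommRing R'], (R ≃+* R') → Q R → Q R'
  loc : ∀ (R R' : Type u) [CommRing R] [CommRing R'] [Algebra R R'] (M : Submonoid R) [IsLocalization M R'],
    Q R → Q R'
  descend : ∀ (R R' : Type u) [CommRing R] [CommRing R'] [Algebra R R'] [Module.FaithfullyFlat R R'], Q R' → Q R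
  span : ∀ (R : Type u) [CommRing R] (s : Set R), Ideal.span s = ⊤ →
    (∀ r ∈ s, Q (Localization.Away r)) → Q R
  up : ∀ (k L S : Type u) [Field k] [Field L] [Algebra k L] [Algebra.EssFiniteType k L] [CommRing S]
    [Algebra k S], (∀ (k' : Type u) [Field k'] [Algebra k k'], Module.Finite k k' → Q (k' ⊗[k] S)) →
    Q (L ⊗[k] S)

/-- Noetherian rings. -/
def QNoeth (R : Type u) [CommRing R] : Prop := IsNoetherianRing R

/-- Noetherian normal rings. -/
def QNormal (R : Type u) [CommRing R] : Prop := IsNoetherianRing R ∧ EGA4.IsNormalRing R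

/-- Regular rings. -/
def QReg (R : Type u) [CommRing R] : Prop := IsRegularRing R

theorem noetherian_self {k S : Type u} [Field k] [CommRing S] [Algebra k S] (h : IsNoetherianRing (k ⊗[k] S)) :
    IsNoetherianRing S :=
  isNoetherianRing_of_ringEquiv _ (Algebra.TensorProduct.lid k S).toRingEquiv

theorem noetherian_up {k L S : Type u} [Field k] [Field L] [Algebra k L] [Algebra.EssFiniteType k L] [CommRing S]
    [Algebra k S] [IsNoetherianRing S] : IsNoetherianRing (L ⊗[k] S) := by
  haveI : IsNoetherianRing (S ⊗[k] L) := Algebra.EssFiniteType.isNoetherianRing S (S ⊗[k] L)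
  exact isNoetherianRing_of_ringEquiv _ (Algebra.TensorProduct.comm k S L).toRingEquiv

theorem noetherian_span (R : Type u) [CommRing R] (s : Set R) (hs : Ideal.span s = ⊤)
    (h : ∀ r ∈ s, IsNoetherianRing (Localization.Away r)) : IsNoetherianRing R := by
  obtain ⟨t, hts, ht⟩ := Submodule.mem_span_finite_of_mem_span
    (show (1 : R) ∈ Ideal.span s by rw [hs]; exact Submodule.mem_top)
  exact AlgebraicGeometry.isNoetherianRing_of_away t ((Ideal.eq_top_iff_one _).2 ht) fun r => h r (hts r.2)

theorem atPrime_congr {R S : Type u} [CommRing R] [CommRing S] [Algebra R S] {p p' : Ideal R} [p.IsPrime]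
    [p'.IsPrime] (h : p = p') [IsLocalization.AtPrime S p] : IsLocalization.AtPrime S p' := by
  subst h; assumption

/-- A local ring of a localisation away from an element. -/
theorem exists_atPrime_equiv {R : Type u} [CommRing R] (p : Ideal R) [hp : p.IsPrime] (r : R) (hrp : r ∉ p) :
    ∃ (q : Ideal (Localization.Away r)) (_ : q.IsPrime),
      Nonempty (Localization.AtPrime q ≃+* Localization.AtPrime p) := by
  let T := Localization.Away r
  have hdisj : Disjoint (Submonoid.powers r : Set R) (p : Set R) :=
    Set.disjoint_left.2 fun x ⟨n, hn⟩ hm => hrp (hp.mem_of_pow_mem n (by rw [← hn] at hm; exact hm))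
  let q := p.map (algebraMap R T)
  haveI : q.IsPrime := IsLocalization.isPrime_of_isPrime_disjoint (Submonoid.powers r) T p hp hdisj
  have hq : q.comap (algebraMap R T) = p :=
    IsLocalization.comap_map_of_isPrime_disjoint (Submonoid.powers r) T hp hdisj
  haveI := IsLocalization.isLocalization_isLocalization_atPrime_isLocalization (M := Submonoid.powers r)
    (Localization.AtPrime q) q
  haveI : IsLocalization.AtPrime (Localization.AtPrime q) p :=
    atPrime_congr (p := q.comap (algebraMap R T)) hq
  exact ⟨q, inferInstance,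
    ⟨(IsLocalization.algEquiv p.primeCompl (Localization.AtPrime q) (Localization.AtPrime p)).toRingEquiv⟩⟩

theorem isFibreProp_noeth : IsFibreProp QNoeth.{u} where
  iso R R' _ _ e h := by haveI : IsNoetherianRing R := h; exact isNoetherianRing_of_ringEquiv R e
  loc R R' _ _ _ M _ h := IsLocalization.isNoetherianRing M R' h
  descend R R' _ _ _ _ h := by haveI : IsNoetherianRing R' := h; exact GeomLoc.isNoetherianRing_of_faithfullyFlat R R'
  span := noetherian_span
  up k L S _ _ _ _ _ _ h := by
    haveI := noetherian_self (h k inferInstance)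
    exact noetherian_up

theorem isFibreProp_normal : IsFibreProp QNormal.{u} where
  iso R R' _ _ e h := ⟨isFibreProp_noeth.iso R R' e h.1, EGA4Lib.isNormalRing_of_ringEquiv e h.2⟩
  loc R R' _ _ _ M _ h :=
    ⟨isFibreProp_noeth.loc R R' M h.1, EGA4Lib.isNormalRing_of_isLocalization (R' := R') M h.2⟩
  descend R R' _ _ _ _ h :=
    ⟨isFibreProp_noeth.descend R R' h.1, EGA4Lib.isNormalRing_of_faithfullyFlat R R' h.2⟩
  span R _ s hs h := by
    refine ⟨noetherian_span R s hs fun r hr => (h r hr).1, fun p hp => ?_⟩
    obtain ⟨r, hr, hrp⟩ : ∃ r ∈ s, r ∉ p := by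
      by_contra! hc
      exact hp.ne_top (top_unique (by rw [← hs]; exact Ideal.span_le.2 hc))
    obtain ⟨q, _, ⟨e⟩⟩ := exists_atPrime_equiv p r hrp
    haveI := ((h r hr).2 q).1
    haveI := ((h r hr).2 q).2
    exact ⟨MulEquiv.isDomain _ e.symm.toMulEquiv, IsIntegrallyClosed.of_equiv e⟩
  up k L S _ _ _ _ _ _ h := by
    haveI := noetherian_self (h k inferInstance).1
    exact ⟨noetherian_up, GeomFieldLib.isNormalRing_tensor_of_isGeomNormal k S (fun k' _ _ hk => (h k' hk).2) L⟩

theorem isFibreProp_reg : IsFibreProp QReg.{u} where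
  iso R R' _ _ e h := by haveI : IsRegularRing R := h; exact IsRegularRing.of_ringEquiv (R := R) e
  loc R R' _ _ _ M _ h := by haveI : IsRegularRing R := h; exact GeomFieldLib.isRegularRing_of_isLocalization M
  descend R R' _ _ _ _ h := by
    haveI : IsRegularRing R' := h
    haveI := GeomLoc.isNoetherianRing_of_faithfullyFlat R R'
    exact GeomFieldLib.isRegularRing_of_faithfullyFlat R R'
  span R _ s hs h := by
    haveI : IsNoetherianRing R := noetherian_span R s hs fun r hr => by
      haveI : IsRegularRing _ := h r hr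
      infer_instance
    show IsRegularRing R
    rw [isRegularRing_iff]
    intro p hp
    obtain ⟨r, hr, hrp⟩ : ∃ r ∈ s, r ∉ p := by
      by_contra! hc
      exact hp.ne_top (top_unique (by rw [← hs]; exact Ideal.span_le.2 hc))
    obtain ⟨q, _, ⟨e⟩⟩ := exists_atPrime_equiv p r hrp
    haveI : IsRegularRing (Localization.Away r) := h r hr
    exact IsRegularLocalRing.of_ringEquiv (R := Localization.AtPrime q) e
  up k L S _ _ _ _ _ _ h := by
    haveI : IsRegularRing (k ⊗[k] S) := h k inferInstance
    haveI : IsNoetherianRing S := noetherian_self (k := k) inferInstance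
    exact GeomFieldLib.isRegularRing_tensor_of_pi_fg k S (fun k' _ _ hk _ => h k' hk) L

variable (Q : ∀ (R : Type u) [CommRing R], Prop)

/-- Flat, with `Q` fibres. -/
def FP (A B : Type u) [CommRing A] [CommRing B] [Algebra A B] : Prop :=
  Module.Flat A B ∧ ∀ (K : Type u) [Field K] [Algebra A K], Algebra.EssFiniteType A K → Q (K ⊗[A] B)

/-- `FP` as a property of ring maps. -/
def P {A B : Type u} [CommRing A] [CommRing B] (φ : A →+* B) : Prop :=
  letI := φ.toAlgebra
  FP Q A B

variable {Q}

theorem P_algebraMap {A B : Type u} [CommRing A] [CommRing B] [Algebra A B] :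
    P Q (algebraMap A B) ↔ FP Q A B := by
  unfold P
  rw [toAlgebra_algebraMap]

variable (hQ : IsFibreProp Q)
include hQ

/-- Fields: a common extension, essentially of finite type. -/
theorem descend_field {A B : Type u} [CommRing A] [CommRing B] [Algebra A B]
    (A' : Type u) [CommRing A'] [Algebra A A'] (p' : Ideal A') [p'.IsPrime] (K : Type u) [Field K] [Algebra A K]
    [Algebra.EssFiniteType A K] (hp : p'.comap (algebraMap A A') = RingHom.ker (algebraMap A K))
    (h : ∀ (L : Type u) [Field L] [Algebra A' L], Algebra.EssFiniteType A' L → Q (L ⊗[A'] (A' ⊗[A] B))) :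
    Q (K ⊗[A] B) := by
  let p := RingHom.ker (algebraMap A K)
  haveI : p.IsPrime := RingHom.ker_isPrime _
  let θ : p.ResidueField →+* K := IsFractionRing.lift (g := Ideal.Quotient.lift p (algebraMap A K) fun a ha => ha)
    (RingHom.lift_injective_of_ker_le_ideal _ _ le_rfl)
  letI : Algebra p.ResidueField K := θ.toAlgebra
  haveI : IsScalarTower A p.ResidueField K := IsScalarTower.of_algebraMap_eq fun a => by
    show _ = θ (algebraMap A p.ResidueField a)
    rw [IsScalarTower.algebraMap_apply A (A ⧸ p) p.ResidueField, Ideal.Quotient.algebraMap_eq]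
    show _ = IsFractionRing.lift _ _
    rw [IsFractionRing.lift_algebraMap, Ideal.Quotient.lift_mk]
  letI : Algebra p.ResidueField p'.ResidueField := (Ideal.ResidueField.map p p' (algebraMap A A') hp.symm).toAlgebra
  haveI : IsScalarTower A p.ResidueField p'.ResidueField := IsScalarTower.of_algebraMap_eq fun a => by
    rw [RingHom.algebraMap_toAlgebra, Ideal.ResidueField.map_algebraMap, ← IsScalarTower.algebraMap_apply]
  haveI : Nontrivial (p'.ResidueField ⊗[p.ResidueField] K) := inferInstance
  obtain ⟨m, hm⟩ := Ideal.exists_maximal (p'.ResidueField ⊗[p.ResidueField] K)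
  let L := (p'.ResidueField ⊗[p.ResidueField] K) ⧸ m
  letI : Field L := Ideal.Quotient.field m
  haveI : Algebra.EssFiniteType p.ResidueField K := Algebra.EssFiniteType.of_comp A p.ResidueField K
  haveI : Algebra.EssFiniteType A' (p'.ResidueField ⊗[p.ResidueField] K) :=
    Algebra.EssFiniteType.comp A' p'.ResidueField _
  haveI : Algebra.EssFiniteType A' L := Algebra.EssFiniteType.comp A' (p'.ResidueField ⊗[p.ResidueField] K) L
  let κL : K →+* L := (Ideal.Quotient.mk m).comp
    (Algebra.TensorProduct.includeRight (R := p.ResidueField) (A := p'.ResidueField) (B := K)).toRingHom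
  letI : Algebra K L := κL.toAlgebra
  haveI : IsScalarTower A A' L := IsScalarTower.of_algebraMap_eq' (by
    show (Ideal.Quotient.mk m).comp (algebraMap A (p'.ResidueField ⊗[p.ResidueField] K)) = _
    ext a
    rw [RingHom.comp_apply, IsScalarTower.algebraMap_apply A A' (p'.ResidueField ⊗[p.ResidueField] K)]
    rfl)
  haveI : IsScalarTower A K L := IsScalarTower.of_algebraMap_eq fun a => by
    show algebraMap A' L (algebraMap A A' a) = Ideal.Quotient.mk m ((1 : p'.ResidueField) ⊗ₜ algebraMap A K a)
    rw [IsScalarTower.algebraMap_apply A p.ResidueField K, Algebra.algebraMap_eq_smul_one (A := K),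
      TensorProduct.tmul_smul, TensorProduct.smul_tmul', ← Algebra.algebraMap_eq_smul_one,
      ← IsScalarTower.algebraMap_apply A p.ResidueField p'.ResidueField,
      IsScalarTower.algebraMap_apply A A' p'.ResidueField]
    rfl
  exact hQ.descend (K ⊗[A] B) ((K ⊗[A] B) ⊗[K] L) (hQ.iso _ _
    (((Algebra.TensorProduct.cancelBaseChange A A' L L B).toRingEquiv.trans
      (Algebra.TensorProduct.cancelBaseChange A K L L B).symm.toRingEquiv).trans
      (Algebra.TensorProduct.comm K L (K ⊗[A] B)).toRingEquiv) (h L inferInstance))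

theorem baseChange {A B : Type u} [CommRing A] [CommRing B] [Algebra A B] (A' : Type u) [CommRing A']
    [Algebra A A'] [Algebra.EssFiniteType A A'] (h : FP Q A B) : FP Q A' (A' ⊗[A] B) := by
  haveI := h.1
  refine ⟨inferInstance, fun K _ _ hK => ?_⟩
  letI : Algebra A K := ((algebraMap A' K).comp (algebraMap A A')).toAlgebra
  haveI : IsScalarTower A A' K := IsScalarTower.of_algebraMap_eq fun _ => rfl
  haveI := hK
  exact hQ.iso _ _ (Algebra.TensorProduct.cancelBaseChange A A' K K B).symm.toRingEquiv
    (h.2 K (Algebra.EssFiniteType.comp A A' K))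

theorem descend {A B : Type u} [CommRing A] [CommRing B] [Algebra A B] (A' : Type u) [CommRing A']
    [Algebra A A'] [Module.FaithfullyFlat A A'] (h : FP Q A' (A' ⊗[A] B)) : FP Q A B := by
  haveI := h.1
  refine ⟨Module.Flat.of_flat_tensorProduct (R := A) B A', fun K _ _ hK => ?_⟩
  haveI := hK
  obtain ⟨p', hp'⟩ := PrimeSpectrum.comap_surjective_of_faithfullyFlat (A := A) (B := A')
    ⟨RingHom.ker (algebraMap A K), RingHom.ker_isPrime _⟩
  exact descend_field hQ A' p'.asIdeal K (congrArg PrimeSpectrum.asIdeal hp') h.2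

theorem subsingleton (R : Type u) [CommRing R] [Subsingleton R] : Q R :=
  hQ.span R ∅ (Subsingleton.elim _ _) fun _ h => h.elim

theorem localization_target {A B : Type u} [CommRing A] [CommRing B] [Algebra A B] (B' : Type u) [CommRing B']
    [Algebra A B'] [Algebra B B'] [IsScalarTower A B B'] (M : Submonoid B) [IsLocalization M B']
    (h : FP Q A B) : FP Q A B' := by
  haveI := h.1
  haveI : Module.Flat B B' := IsLocalization.flat B' M
  refine ⟨Module.Flat.trans A B B', fun K _ _ hK => ?_⟩
  letI : Algebra B (B ⊗[A] K) := Algebra.TensorProduct.leftAlgebra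
  let φ := Algebra.TensorProduct.map (IsScalarTower.toAlgHom A B B') (AlgHom.id A K)
  letI : Algebra (B ⊗[A] K) (B' ⊗[A] K) := φ.toRingHom.toAlgebra
  haveI : IsScalarTower B (B ⊗[A] K) (B' ⊗[A] K) :=
    IsScalarTower.of_algebraMap_eq (R := B) (S := B ⊗[A] K) (A := B' ⊗[A] K) fun a => by
      simp [RingHom.algebraMap_toAlgebra, φ]
  haveI := IsLocalization.tensorProduct_tensorProduct A K M B' (by
    ext l; simp [RingHom.algebraMap_toAlgebra, φ])
  exact hQ.iso _ _ (Algebra.TensorProduct.comm A B' K).toRingEquiv
    (hQ.loc (B ⊗[A] K) (B' ⊗[A] K) (Algebra.algebraMapSubmonoid (B ⊗[A] K) M)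
      (hQ.iso _ _ (Algebra.TensorProduct.comm A K B).toRingEquiv (h.2 K hK)))

theorem localization_source {A A₁ B : Type u} [CommRing A] [CommRing A₁] [CommRing B] [Algebra A A₁]
    [Algebra A₁ B] [Algebra A B] [IsScalarTower A A₁ B] (r : A) [IsLocalization.Away r A₁] (h : FP Q A₁ B) :
    FP Q A B := by
  haveI := h.1
  haveI : Module.Flat A A₁ := IsLocalization.flat A₁ (Submonoid.powers r)
  refine ⟨Module.Flat.trans A A₁ B, fun K _ _ hK => ?_⟩
  by_cases hr : algebraMap A K r = 0
  · have h1 : (1 : K ⊗[A] B) = 0 := by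
      have hu : IsUnit (algebraMap A B r) := by
        rw [IsScalarTower.algebraMap_apply A A₁ B]
        exact (IsLocalization.Away.algebraMap_isUnit r).map _
      obtain ⟨v, hv⟩ := hu.exists_right_inv
      show (1 : K) ⊗ₜ[A] (1 : B) = 0
      rw [← hv, ← Algebra.smul_def, TensorProduct.tmul_smul, TensorProduct.smul_tmul', Algebra.smul_def, hr,
        zero_mul, TensorProduct.zero_tmul]
    haveI : Subsingleton (K ⊗[A] B) := subsingleton_of_zero_eq_one h1.symm
    exact subsingleton hQ _
  · letI : Algebra A₁ K := (IsLocalization.Away.lift r (Ne.isUnit hr)).toAlgebra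
    haveI : IsScalarTower A A₁ K := IsScalarTower.of_algebraMap_eq fun a =>
      (IsLocalization.Away.lift_eq r (Ne.isUnit hr) a).symm
    haveI := hK
    exact hQ.iso _ _ ((IsLocalization.algebraTensorEquiv (Submonoid.powers r) A₁ K B).toRingEquiv)
      (h.2 K (Algebra.EssFiniteType.of_comp A A₁ K))

theorem span_target {A B : Type u} [CommRing A] [CommRing B] [Algebra A B] (s : Set B) (hs : Ideal.span s = ⊤)
    (h : ∀ r ∈ s, FP Q A (Localization.Away r)) : FP Q A B := by
  refine ⟨?_, fun K _ _ hK => ?_⟩
  · exact RingHom.flat_algebraMap_iff.1 (RingHom.Flat.ofLocalizationSpanTarget (algebraMap A B) s hs fun r =>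
      (by
        rw [← IsScalarTower.algebraMap_eq]
        exact RingHom.flat_algebraMap_iff.2 (h r.1 r.2).1))
  let ι : B →+* B ⊗[A] K := algebraMap B (B ⊗[A] K)
  refine hQ.iso _ _ (Algebra.TensorProduct.comm A B K).toRingEquiv (hQ.span (B ⊗[A] K) (ι '' s) ?_ ?_)
  · rw [← Ideal.map_span, hs, Ideal.map_top]
  · rintro _ ⟨r, hr, rfl⟩
    let B' := Localization.Away r
    letI : Algebra B (B ⊗[A] K) := Algebra.TensorProduct.leftAlgebra
    let φ := Algebra.TensorProduct.map (IsScalarTower.toAlgHom A B B') (AlgHom.id A K)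
    letI : Algebra (B ⊗[A] K) (B' ⊗[A] K) := φ.toRingHom.toAlgebra
    haveI : IsScalarTower B (B ⊗[A] K) (B' ⊗[A] K) :=
      IsScalarTower.of_algebraMap_eq (R := B) (S := B ⊗[A] K) (A := B' ⊗[A] K) fun a => by
        simp [RingHom.algebraMap_toAlgebra, φ]
        rfl
    haveI := IsLocalization.tensorProduct_tensorProduct A K (Submonoid.powers r) B' (by
      ext l; simp [RingHom.algebraMap_toAlgebra, φ])
    haveI : IsLocalization.Away (ι r) (B' ⊗[A] K) := by
      have h1 : Algebra.algebraMapSubmonoid (B ⊗[A] K) (Submonoid.powers r) = Submonoid.powers (ι r) := by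
        rw [Algebra.algebraMapSubmonoid, Submonoid.map_powers]
      show IsLocalization (Submonoid.powers (ι r)) (B' ⊗[A] K)
      rw [← h1]; infer_instance
    exact hQ.iso _ _ (IsLocalization.algEquiv (Submonoid.powers (ι r)) (B' ⊗[A] K)
      (Localization.Away (ι r))).toRingEquiv
      (hQ.iso _ _ (Algebra.TensorProduct.comm A K B').toRingEquiv ((h r hr).2 K hK))

theorem stableSource : RingHom.StableUnderCompositionWithLocalizationAwaySource (P Q) := by
  introv R _ hf
  unfold P at hf ⊢
  algebraize [f, f.comp (algebraMap R S)]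
  exact localization_source hQ r hf

theorem stableTarget : RingHom.StableUnderCompositionWithLocalizationAwayTarget (P Q) := by
  introv R _ hf
  unfold P at hf ⊢
  algebraize [f, (algebraMap S T).comp f]
  exact localization_target hQ T (Submonoid.powers s) hf

theorem ofSpanTarget : RingHom.OfLocalizationSpanTarget (P Q) := by
  introv R hsp h
  unfold P at h ⊢
  letI := f.toAlgebra
  refine span_target hQ s hsp fun r hr => ?_
  have h1 : @FP Q R (Localization.Away r) _ _ ((algebraMap S (Localization.Away r)).comp f).toAlgebra := h ⟨r, hr⟩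
  have : ((algebraMap S (Localization.Away r)).comp f).toAlgebra = (inferInstance : Algebra R (Localization.Away r)) :=
    Algebra.algebra_ext _ _ fun a => by
      rw [RingHom.algebraMap_toAlgebra]
      exact (IsScalarTower.algebraMap_apply R S (Localization.Away r) a).symm
  rw [this] at h1
  exact h1

theorem awayPreserves : RingHom.LocalizationAwayPreserves (P Q) := by
  intro R S _ _ f r R' S' _ _ _ _ _ _ hf
  unfold P at hf ⊢
  letI := f.toAlgebra
  letI : Algebra R' S' := (IsLocalization.Away.map R' S' f r).toAlgebra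
  letI : Algebra R S' := ((algebraMap S S').comp f).toAlgebra
  haveI : IsScalarTower R S S' := IsScalarTower.of_algebraMap_eq fun _ => rfl
  haveI : IsScalarTower R R' S' := IsScalarTower.of_algebraMap_eq fun a =>
    by simp [RingHom.algebraMap_toAlgebra, IsLocalization.Away.map]
  haveI : Algebra.EssFiniteType R R' := Algebra.EssFiniteType.of_isLocalization R' (Submonoid.powers r)
  haveI : IsLocalization (Algebra.algebraMapSubmonoid S (Submonoid.powers r)) S' := by
    rw [Algebra.algebraMapSubmonoid, Submonoid.map_powers]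
    exact ‹IsLocalization.Away (f r) S'›
  have hpo : Algebra.IsPushout R R' S S' := (Algebra.isPushout_of_isLocalization (Submonoid.powers r) R' S S').symm
  let e : R' ⊗[R] S ≃ₐ[R'] S' := Algebra.IsPushout.equiv R R' S S'
  obtain ⟨h1, h2⟩ := baseChange hQ R' hf
  exact ⟨Module.Flat.of_linearEquiv e.symm.toLinearEquiv, fun K _ _ hK => hQ.iso _ _
    (Algebra.TensorProduct.congr (AlgEquiv.refl (R := R') (A₁ := K)) e).toRingEquiv (h2 K hK)⟩

/-- The fibrewise properties are local. -/
theorem propertyIsLocal : RingHom.PropertyIsLocal (P Q) where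
  localizationAwayPreserves := awayPreserves hQ
  ofLocalizationSpanTarget := ofSpanTarget hQ
  ofLocalizationSpan := (ofSpanTarget hQ).ofLocalizationSpan (stableSource hQ)
  StableUnderCompositionWithLocalizationAwayTarget := stableTarget hQ

omit hQ

/-- Regular homomorphisms. -/
theorem fp_reg_iff (A B : Type u) [CommRing A] [CommRing B] [Algebra A B] :
    FP QReg A B ↔ CAlg.IsRegularHom A B := by
  refine ⟨fun ⟨h1, h2⟩ => ⟨h1, fun p _ => ?_⟩, fun ⟨h1, h2⟩ => ⟨h1, fun K _ _ hK => ?_⟩⟩
  · haveI : Algebra.EssFiniteType A p.ResidueField :=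
      (haveI : Algebra.EssFiniteType (A ⧸ p) p.ResidueField :=
        Algebra.EssFiniteType.of_isLocalization _ (nonZeroDivisors (A ⧸ p));
      Algebra.EssFiniteType.comp A (A ⧸ p) p.ResidueField)
    refine ⟨noetherian_self (k := p.ResidueField) (?_ : IsNoetherianRing (p.ResidueField ⊗[p.ResidueField] p.Fiber B)),
      fun k' _ _ hk => ?_⟩
    · haveI : IsRegularRing (p.ResidueField ⊗[A] B) := h2 p.ResidueField inferInstance
      exact isNoetherianRing_of_ringEquiv _ (Algebra.TensorProduct.lid p.ResidueField _).symm.toRingEquiv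
    · letI := Algebra.compHom k' (algebraMap A p.ResidueField)
      haveI : IsScalarTower A p.ResidueField k' := IsScalarTower.of_algebraMap_eq fun _ => rfl
      haveI : IsRegularRing (k' ⊗[A] B) := h2 k' (Algebra.EssFiniteType.comp A p.ResidueField k')
      exact IsRegularRing.of_ringEquiv (R := k' ⊗[A] B)
        (Algebra.TensorProduct.cancelBaseChange A p.ResidueField k' k' B).symm.toRingEquiv
  · exact fibre_up isFibreProp_reg K hK fun p _ => fun k' _ _ hk => (h2 p).2 k' hk
where
  fibre_up {Q : ∀ (R : Type u) [CommRing R], Prop} (hQ : IsFibreProp Q) {A B : Type u} [CommRing A] [CommRing B]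
    [Algebra A B] (K : Type u) [Field K] [Algebra A K] (hK : Algebra.EssFiniteType A K)
    (h : ∀ (p : Ideal A) [p.IsPrime] (k' : Type u) [Field k'] [Algebra p.ResidueField k'],
      Module.Finite p.ResidueField k' → Q (k' ⊗[p.ResidueField] p.Fiber B)) : Q (K ⊗[A] B) := by
    let p := RingHom.ker (algebraMap A K)
    haveI : p.IsPrime := RingHom.ker_isPrime _
    let θ : p.ResidueField →+* K := IsFractionRing.lift (g := Ideal.Quotient.lift p (algebraMap A K) fun a ha => ha)
      (RingHom.lift_injective_of_ker_le_ideal _ _ le_rfl)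
    letI : Algebra p.ResidueField K := θ.toAlgebra
    haveI : IsScalarTower A p.ResidueField K := IsScalarTower.of_algebraMap_eq fun a => by
      show _ = θ (algebraMap A p.ResidueField a)
      rw [IsScalarTower.algebraMap_apply A (A ⧸ p) p.ResidueField, Ideal.Quotient.algebraMap_eq]
      show _ = IsFractionRing.lift _ _
      rw [IsFractionRing.lift_algebraMap, Ideal.Quotient.lift_mk]
    haveI := hK
    haveI : Algebra.EssFiniteType p.ResidueField K := Algebra.EssFiniteType.of_comp A p.ResidueField K
    exact hQ.iso _ _ (Algebra.TensorProduct.cancelBaseChange A p.ResidueField K K B).toRingEquiv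
      (hQ.up p.ResidueField K (p.Fiber B) (h p))

end Groth.Agent.Fibres16.FibMor
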