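import Groth.Agent.Fibres16.FibMor.Ring
import Mathlib.AlgebraicGeometry.Fiber
import Mathlib.AlgebraicGeometry.Morphisms.Flat
import Mathlib.AlgebraicGeometry.Morphisms.LocalIso
import Mathlib.AlgebraicGeometry.Morphisms.Descent
import Mathlib.AlgebraicGeometry.Morphisms.FlatDescent
import Mathlib.AlgebraicGeometry.Morphisms.UniversallyOpen
import Mathlib.RingTheory.RingHom.FaithfullyFlat

/-!
# Morphisms with a fibrewise property

`Mor Q f`: on all affine charts, flat with `Q` fibres. Criterion by the fibres, base change along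
morphisms locally of finite type, fppf descent.
-/

set_option autoImplicit false
set_option linter.style.haveILetI false

universe u

open CategoryTheory Limits AlgebraicGeometry TensorProduct

namespace Groth.Agent.Fibres16.FibMor

variable (Q : ∀ (R : Type u) [CommRing R], Prop)

/-- All affine charts have the fibrewise property. -/
def Mor : MorphismProperty Scheme.{u} := affineLocally (P Q)

variable {Q}

theorem mor_iff {X Y : Scheme.{u}} (f : X ⟶ Y) :
    Mor Q f ↔ ∀ (U : X.Opens) (V : Y.Opens) (_ : IsAffineOpen U) (_ : IsAffineOpen V) (e : U ≤ f ⁻¹ᵁ V),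
      letI := (f.appLE V U e).hom.toAlgebra
      FP Q Γ(Y, V) Γ(X, U) := by
  unfold Mor
  rw [affineLocally_iff_forall_isAffineOpen]
  exact ⟨fun h U V hU hV e => h hV hU e, fun h V hV U hU e => h U V hU hV e⟩

variable (hQ : IsFibreProp Q)
include hQ

theorem hasRingHomProperty : HasRingHomProperty (Mor Q) (P Q) := ⟨propertyIsLocal hQ, rfl⟩

theorem comp_openImmersion {X Y Z : Scheme.{u}} (f : X ⟶ Y) (i : Y ⟶ Z) [IsOpenImmersion i] (hf : Mor Q f) :
    Mor Q (f ≫ i) := by
  haveI := hasRingHomProperty hQ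
  haveI := HasRingHomProperty.respects_isOpenImmersion (P := Mor Q) (stableSource hQ)
  exact MorphismProperty.RespectsRight.postcomp (Q := @IsOpenImmersion) i ‹_› f hf

theorem cancel_openImmersion {X Y Z : Scheme.{u}} (f : X ⟶ Y) (i : Y ⟶ Z) [IsOpenImmersion i]
    (hf : Mor Q (f ≫ i)) : Mor Q f := by
  haveI := hasRingHomProperty hQ
  have h : IsPullback (𝟙 X) f (f ≫ i) i :=
    IsPullback.of_isLimit' ⟨by simp⟩ (PullbackCone.IsLimit.mk _ (fun s => s.fst) (fun s => by simp)
      (fun s => by rw [← cancel_mono i, Category.assoc]; exact s.condition) fun s m hm _ => by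
        simpa using hm)
  exact IsZariskiLocalAtTarget.of_isPullback h hf

/-- The ring map of a chart. -/
theorem fp_chart {X Y : Scheme.{u}} {f : X ⟶ Y} (hf : Mor Q f) {A B : Type u} [CommRing A] [CommRing B]
    [Algebra A B] (iV : Spec (CommRingCat.of A) ⟶ Y) [IsOpenImmersion iV] (iU : Spec (CommRingCat.of B) ⟶ X)
    [IsOpenImmersion iU] (sq : iU ≫ f = Spec.map (CommRingCat.ofHom (algebraMap A B)) ≫ iV) : FP Q A B := by
  haveI := hasRingHomProperty hQ
  have h := cancel_openImmersion hQ _ iV (sq ▸ HasRingHomProperty.comp_of_isOpenImmersion (Mor Q) iU f hf)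
  exact P_algebraMap.1 ((HasRingHomProperty.Spec_iff (P := Mor Q)).1 h)

/-- The property is checked on an atlas. -/
theorem mor_of_charts {X Y : Scheme.{u}} {f : X ⟶ Y}
    (h : ∀ x : X, ∃ (A B : Type u) (_ : CommRing A) (_ : CommRing B) (_ : Algebra A B)
      (iV : Spec (CommRingCat.of A) ⟶ Y) (_ : IsOpenImmersion iV) (iU : Spec (CommRingCat.of B) ⟶ X)
      (_ : IsOpenImmersion iU), iU ≫ f = Spec.map (CommRingCat.ofHom (algebraMap A B)) ≫ iV ∧
        x ∈ Set.range iU ∧ FP Q A B) : Mor Q f := by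
  haveI := hasRingHomProperty hQ
  choose A B iA iB iAB iV hiV iU hiU sq hx hFP using h
  refine IsZariskiLocalAtSource.of_openCover (P := Mor Q)
    (Scheme.Cover.mkOfCovers X (fun x => Spec (CommRingCat.of (B x))) iU
      (fun x => ⟨x, hx x⟩) hiU) fun x => ?_
  show Mor Q (iU x ≫ f)
  rw [sq x]
  exact comp_openImmersion hQ _ (iV x) ((HasRingHomProperty.Spec_iff (P := Mor Q)).2 (P_algebraMap.2 (hFP x)))

omit hQ in
/-- An affine chart of a base change. -/
theorem chart_pullback {X Y Y' : Scheme.{u}} (f : X ⟶ Y) (g : Y' ⟶ Y) {A B : Type u} [CommRing A] [CommRing B]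
    [Algebra A B] (iV : Spec (CommRingCat.of A) ⟶ Y) [IsOpenImmersion iV] (iU : Spec (CommRingCat.of B) ⟶ X)
    [IsOpenImmersion iU] (sq : iU ≫ f = Spec.map (CommRingCat.ofHom (algebraMap A B)) ≫ iV)
    (A' : Type u) [CommRing A'] [Algebra A A'] (iV' : Spec (CommRingCat.of A') ⟶ Y') [IsOpenImmersion iV']
    (sq' : iV' ≫ g = Spec.map (CommRingCat.ofHom (algebraMap A A')) ≫ iV) :
    ∃ j : Spec (CommRingCat.of (A' ⊗[A] B)) ⟶ pullback f g, IsOpenImmersion j ∧
      j ≫ pullback.snd f g = Spec.map (CommRingCat.ofHom (algebraMap A' (A' ⊗[A] B))) ≫ iV' ∧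
      ∀ z, pullback.fst f g z ∈ Set.range iU → pullback.snd f g z ∈ Set.range iV' → z ∈ Set.range j := by
  let m : pullback (Spec.map (CommRingCat.ofHom (algebraMap A B)))
        (Spec.map (CommRingCat.ofHom (algebraMap A A'))) ⟶ pullback f g :=
    pullback.map _ _ f g iU iV' iV sq.symm sq'.symm
  haveI : IsOpenImmersion m := by unfold m; infer_instance
  let e₁ := (pullbackSpecIso A A' B).inv ≫ (pullbackSymmetry (Spec.map (CommRingCat.ofHom (algebraMap A A')))
    (Spec.map (CommRingCat.ofHom (algebraMap A B)))).hom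
  refine ⟨e₁ ≫ m, inferInstance, ?_, fun z hz hz' => ?_⟩
  · simp only [e₁, m, pullback.map, Category.assoc]
    rw [pullback.lift_snd, pullbackSymmetry_hom_comp_snd_assoc, pullbackSpecIso_inv_fst_assoc]
  · obtain ⟨a, ha⟩ := (Scheme.Pullback.range_map (Spec.map (CommRingCat.ofHom (algebraMap A B)))
      (Spec.map (CommRingCat.ofHom (algebraMap A A'))) f g iU iV' iV sq.symm sq'.symm).ge ⟨hz, hz'⟩
    obtain ⟨b, rfl⟩ := (Scheme.Hom.homeomorph e₁).surjective a
    exact ⟨b, (Scheme.Hom.comp_apply e₁ m b).trans ha⟩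

omit hQ in
/-- Charts around a point. -/
theorem exists_charts {X Y : Scheme.{u}} (f : X ⟶ Y) (x : X) {V : Y.Opens} (hV : IsAffineOpen V) (hx : f x ∈ V) :
    ∃ (U : X.Opens) (hU : IsAffineOpen U) (e : U ≤ f ⁻¹ᵁ V), x ∈ U ∧
      hU.fromSpec ≫ f = Spec.map (f.appLE V U e) ≫ hV.fromSpec := by
  obtain ⟨U, hU, hxU, e⟩ := TopologicalSpace.Opens.isBasis_iff_nbhd.mp X.isBasis_affineOpens
    (show x ∈ f ⁻¹ᵁ V from hx)
  exact ⟨U, hU, e, hxU, (IsAffineOpen.SpecMap_appLE_fromSpec f hV hU e).symm⟩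

/-- Base change along morphisms locally essentially of finite type. -/
theorem mor_baseChange' {X Y Y' : Scheme.{u}} {f : X ⟶ Y} (g : Y' ⟶ Y) (hf : Mor Q f)
    (hg : ∀ y' : Y', ∃ (A : Type u) (_ : CommRing A) (A' : Type u) (_ : CommRing A') (_ : Algebra A A')
      (iV : Spec (CommRingCat.of A) ⟶ Y) (_ : IsOpenImmersion iV) (iV' : Spec (CommRingCat.of A') ⟶ Y')
      (_ : IsOpenImmersion iV'), iV' ≫ g = Spec.map (CommRingCat.ofHom (algebraMap A A')) ≫ iV ∧
        y' ∈ Set.range iV' ∧ Algebra.EssFiniteType A A') : Mor Q (pullback.snd f g) := by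
  refine mor_of_charts hQ fun z => ?_
  obtain ⟨A, _, A', _, _, iV, _, iV', _, sq', hy', hfin⟩ := hg (pullback.snd f g z)
  have hx : f (pullback.fst f g z) ∈ iV.opensRange := by
    rw [← Scheme.Hom.comp_apply, pullback.condition, Scheme.Hom.comp_apply]
    obtain ⟨a, ha⟩ := hy'
    rw [← ha, ← Scheme.Hom.comp_apply, sq', Scheme.Hom.comp_apply]
    exact ⟨_, rfl⟩
  obtain ⟨U, hU, hzU, e⟩ := TopologicalSpace.Opens.isBasis_iff_nbhd.mp X.isBasis_affineOpens
    (show pullback.fst f g z ∈ f ⁻¹ᵁ iV.opensRange from hx)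
  have hr : Set.range (hU.fromSpec ≫ f) ⊆ Set.range iV := by
    rintro _ ⟨a, rfl⟩
    rw [Scheme.Hom.comp_apply]
    exact e (hU.range_fromSpec.le ⟨a, rfl⟩)
  let φ := Spec.preimage (IsOpenImmersion.lift iV (hU.fromSpec ≫ f) hr)
  letI : Algebra A Γ(X, U) := φ.hom.toAlgebra
  have sq : hU.fromSpec ≫ f = Spec.map (CommRingCat.ofHom (algebraMap A Γ(X, U))) ≫ iV := by
    show _ = Spec.map φ ≫ iV
    rw [Spec.map_preimage, IsOpenImmersion.lift_fac]
  obtain ⟨j, hj, hjs, hjr⟩ := chart_pullback f g iV hU.fromSpec sq A' iV' sq'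
  exact ⟨A', A' ⊗[A] Γ(X, U), inferInstance, inferInstance, inferInstance, iV', inferInstance, j, hj, hjs,
    hjr z (hU.range_fromSpec.ge hzU) hy', baseChange hQ A' (fp_chart hQ hf iV hU.fromSpec sq)⟩

/-- Base change along morphisms locally of finite type. -/
theorem mor_baseChange {X Y X' Y' : Scheme.{u}} {f : X ⟶ Y} {f' : X' ⟶ Y'} {g' : X' ⟶ X} {g : Y' ⟶ Y}
    [LocallyOfFiniteType g] (hc : IsPullback g' f' f g) (hf : Mor Q f) : Mor Q f' := by
  haveI := hasRingHomProperty hQ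
  rw [show f' = hc.isoPullback.hom ≫ pullback.snd f g from hc.isoPullback_hom_snd.symm,
    MorphismProperty.cancel_left_of_respectsIso (Mor Q)]
  refine mor_baseChange' hQ g hf fun y' => ?_
  obtain ⟨V, hV, hyV, -⟩ := TopologicalSpace.Opens.isBasis_iff_nbhd.mp Y.isBasis_affineOpens
    (TopologicalSpace.Opens.mem_top (g y'))
  obtain ⟨V', hV', e, hyV', sq'⟩ := exists_charts g y' hV hyV
  letI : Algebra Γ(Y, V) Γ(Y', V') := (g.appLE V V' e).hom.toAlgebra
  haveI : Algebra.FiniteType Γ(Y, V) Γ(Y', V') :=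
    HasRingHomProperty.appLE (P := @LocallyOfFiniteType) g inferInstance ⟨V, hV⟩ ⟨V', hV'⟩ e
  exact ⟨Γ(Y, V), inferInstance, Γ(Y', V'), inferInstance, inferInstance, hV.fromSpec, inferInstance,
    hV'.fromSpec, inferInstance, sq', hV'.range_fromSpec.ge hyV', inferInstance⟩

omit hQ in
/-- The residue field at a point of an affine open. -/
theorem exists_residue_chart {Y : Scheme.{u}} (y : Y) {V : Y.Opens} (hV : IsAffineOpen V) (hy : y ∈ V) :
    ∃ _ : Algebra Γ(Y, V) (Y.residueField y),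
      Spec.map (CommRingCat.ofHom (algebraMap Γ(Y, V) (Y.residueField y))) ≫ hV.fromSpec =
        Y.fromSpecResidueField y ∧ Algebra.EssFiniteType Γ(Y, V) (Y.residueField y) := by
  refine ⟨(Y.presheaf.germ V y hy ≫ Y.residue y).hom.toAlgebra, ?_, ?_⟩
  · show Spec.map (Y.presheaf.germ V y hy ≫ Y.residue y) ≫ hV.fromSpec = _
    rw [Spec.map_comp, Category.assoc, Scheme.fromSpecResidueField]
    congr 1
    exact IsAffineOpen.fromSpecStalk_eq_fromSpecStalk hV hy
  · letI : Algebra Γ(Y, V) (Y.presheaf.stalk y) := (Y.presheaf.germ V y hy).hom.toAlgebra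
    haveI : IsLocalization.AtPrime (Y.presheaf.stalk y) (hV.primeIdealOf ⟨y, hy⟩).asIdeal :=
      hV.isLocalization_stalk ⟨y, hy⟩
    haveI : Algebra.EssFiniteType Γ(Y, V) (Y.presheaf.stalk y) :=
      Algebra.EssFiniteType.of_isLocalization _ (hV.primeIdealOf ⟨y, hy⟩).asIdeal.primeCompl
    letI : Algebra (Y.presheaf.stalk y) (Y.residueField y) := (Y.residue y).hom.toAlgebra
    letI : Algebra Γ(Y, V) (Y.residueField y) := (Y.presheaf.germ V y hy ≫ Y.residue y).hom.toAlgebra
    haveI : IsScalarTower Γ(Y, V) (Y.presheaf.stalk y) (Y.residueField y) :=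
      IsScalarTower.of_algebraMap_eq fun _ => rfl
    haveI : Algebra.FiniteType (Y.presheaf.stalk y) (Y.residueField y) :=
      Algebra.FiniteType.of_surjective (Algebra.ofId _ _) (Scheme.residue_surjective Y y)
    exact Algebra.EssFiniteType.comp Γ(Y, V) (Y.presheaf.stalk y) (Y.residueField y)

/-- The fibres of a morphism with the property have it. -/
theorem mor_fiber {X Y : Scheme.{u}} {f : X ⟶ Y} (hf : Mor Q f) (y : Y) : Mor Q (f.fiberToSpecResidueField y) := by
  refine mor_baseChange' hQ (Y.fromSpecResidueField y) hf fun p => ?_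
  obtain ⟨V, hV, hyV, -⟩ := TopologicalSpace.Opens.isBasis_iff_nbhd.mp Y.isBasis_affineOpens
    (TopologicalSpace.Opens.mem_top y)
  obtain ⟨alg, h1, h2⟩ := exists_residue_chart y hV hyV
  exact ⟨Γ(Y, V), inferInstance, Y.residueField y, inferInstance, alg, hV.fromSpec, inferInstance,
    𝟙 _, inferInstance, (Category.id_comp _).trans h1.symm, ⟨p, rfl⟩, h2⟩

omit hQ in
theorem fiber_chart {X Y : Scheme.{u}} (f : X ⟶ Y) (y : Y) {W : (f.fiber y).Opens} (hW : IsAffineOpen W) :
    letI : Algebra ↑(Y.residueField y) ↑Γ(f.fiber y, W) := ((Scheme.ΓSpecIso (Y.residueField y)).inv ≫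
      (f.fiberToSpecResidueField y).appTop ≫ (f.fiber y).presheaf.map (homOfLE le_top).op).hom.toAlgebra
    hW.fromSpec ≫ f.fiberToSpecResidueField y =
      Spec.map (CommRingCat.ofHom (algebraMap ↑(Y.residueField y) ↑Γ(f.fiber y, W))) ≫ 𝟙 _ := by
  rw [Category.comp_id, ← IsAffineOpen.SpecMap_appLE_fromSpec (f.fiberToSpecResidueField y)
    (isAffineOpen_top _) hW le_top, IsAffineOpen.fromSpec_top, Scheme.isoSpec_Spec_inv, ← Spec.map_comp]
  rfl

omit hQ in
/-- Flat morphisms, on charts. -/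
theorem flat_iff {X Y : Scheme.{u}} (f : X ⟶ Y) :
    Flat f ↔ ∀ (U : X.Opens) (V : Y.Opens) (_ : IsAffineOpen U) (_ : IsAffineOpen V) (e : U ≤ f ⁻¹ᵁ V),
      (f.appLE V U e).hom.Flat :=
  (HasRingHomProperty.iff_appLE (P := @Flat)).trans
    ⟨fun h U V hU hV e => h ⟨V, hV⟩ ⟨U, hU⟩ e, fun h V U e => h U.1 V.1 U.2 V.2 e⟩

theorem fp_field {k : Type u} [Field k] {S : Type u} [CommRing S] [Algebra k S]
    (h : ∀ (k' : Type u) [Field k'] [Algebra k k'], Module.Finite k k' → Q (k' ⊗[k] S)) : FP Q k S :=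
  ⟨inferInstance, fun K _ _ _ => hQ.up k K S h⟩

/-- The criterion by the fibres. -/
theorem mor_iff_fibres {X Y : Scheme.{u}} (f : X ⟶ Y) :
    Mor Q f ↔ Flat f ∧ ∀ (y : Y) (W : (f.fiber y).Opens), IsAffineOpen W →
      letI : Algebra ↑(Y.residueField y) ↑Γ(f.fiber y, W) := ((Scheme.ΓSpecIso (Y.residueField y)).inv ≫
        (f.fiberToSpecResidueField y).appTop ≫ (f.fiber y).presheaf.map (homOfLE le_top).op).hom.toAlgebra
      ∀ (K : Type u) [Field K] [Algebra ↑(Y.residueField y) K], Module.Finite ↑(Y.residueField y) K →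
        Q (K ⊗[↑(Y.residueField y)] ↑Γ(f.fiber y, W)) := by
  refine ⟨fun hf => ⟨(flat_iff f).2 fun U V hU hV e => ((mor_iff f).1 hf U V hU hV e).1, fun y W hW => ?_⟩,
    fun ⟨hfl, h⟩ => (mor_iff f).2 fun U V hU hV e => ?_⟩
  · letI : Algebra ↑(Y.residueField y) ↑Γ(f.fiber y, W) := ((Scheme.ΓSpecIso (Y.residueField y)).inv ≫
        (f.fiberToSpecResidueField y).appTop ≫ (f.fiber y).presheaf.map (homOfLE le_top).op).hom.toAlgebra
    intro K _ _ hK
    exact (fp_chart hQ (A := ↑(Y.residueField y)) (B := ↑Γ(f.fiber y, W)) (mor_fiber hQ hf y)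
      (𝟙 (Spec (CommRingCat.of ↑(Y.residueField y)))) hW.fromSpec
      (fiber_chart f y hW)).2 K inferInstance
  letI := (f.appLE V U e).hom.toAlgebra
  refine ⟨(flat_iff f).1 hfl U V hU hV e, fun K _ _ hK => ?_⟩
  haveI := hK
  let p : PrimeSpectrum Γ(Y, V) := ⟨RingHom.ker (algebraMap _ K), RingHom.ker_isPrime _⟩
  let y := hV.fromSpec p
  obtain ⟨alg, h1, h2⟩ := exists_residue_chart y hV (hV.range_fromSpec.le ⟨p, rfl⟩)
  have hker : RingHom.ker (algebraMap Γ(Y, V) (Y.residueField y)) = p.asIdeal := by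
    have h3 : hV.fromSpec (Spec.map (CommRingCat.ofHom (algebraMap Γ(Y, V) (Y.residueField y)))
        ⟨⊥, Ideal.isPrime_bot⟩) = hV.fromSpec p := by
      rw [← Scheme.Hom.comp_apply, h1]
      exact (Scheme.range_fromSpecResidueField y).le ⟨_, rfl⟩
    exact congrArg PrimeSpectrum.asIdeal (hV.fromSpec.isOpenEmbedding.injective h3)
  have hfib : Mor Q (f.fiberToSpecResidueField y) := by
    refine mor_of_charts hQ fun z => ?_
    obtain ⟨W, hW, hzW, -⟩ := TopologicalSpace.Opens.isBasis_iff_nbhd.mp (f.fiber y).isBasis_affineOpens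
      (TopologicalSpace.Opens.mem_top z)
    letI : Algebra ↑(Y.residueField y) ↑Γ(f.fiber y, W) := ((Scheme.ΓSpecIso (Y.residueField y)).inv ≫
      (f.fiberToSpecResidueField y).appTop ≫ (f.fiber y).presheaf.map (homOfLE le_top).op).hom.toAlgebra
    exact ⟨Y.residueField y, Γ(f.fiber y, W), inferInstance, inferInstance, inferInstance, 𝟙 _, inferInstance,
      hW.fromSpec, inferInstance, fiber_chart f y hW, hW.range_fromSpec.ge hzW, fp_field hQ (h y W hW)⟩
  obtain ⟨j, hj, hjs, -⟩ := chart_pullback (A := ↑Γ(Y, V)) (B := ↑Γ(X, U)) f (Y.fromSpecResidueField y) hV.fromSpec hU.fromSpec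
    (IsAffineOpen.SpecMap_appLE_fromSpec f hV hU e).symm (Y.residueField y) (𝟙 (Spec (CommRingCat.of ↑(Y.residueField y))))
    ((Category.id_comp _).trans h1.symm)
  let j' : Spec (CommRingCat.of (↑(Y.residueField y) ⊗[↑Γ(Y, V)] ↑Γ(X, U))) ⟶ f.fiber y := j
  haveI : IsOpenImmersion j' := hj
  exact descend_field hQ (Y.residueField y) ⊥ K hker (fp_chart hQ hfib (𝟙 (Spec (CommRingCat.of ↑(Y.residueField y)))) j' hjs).2

/-- Descent along fppf coverings. -/
theorem mor_descend {X Y X' Y' : Scheme.{u}} {f : X ⟶ Y} {f' : X' ⟶ Y'} {g' : X' ⟶ X} {g : Y' ⟶ Y}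
    [Flat g] [LocallyOfFinitePresentation g] [Surjective g] (hc : IsPullback g' f' f g)
    (hf' : Mor Q f') : Mor Q f := by
  haveI := hasRingHomProperty hQ
  refine (mor_iff f).2 fun U V hU hV e => ?_
  have hgr : (V : Set Y) ⊆ g '' ((g ⁻¹ᵁ V : Y'.Opens) : Set Y') := fun v hv => by
    obtain ⟨w, rfl⟩ := g.surjective v
    exact ⟨w, hv, rfl⟩
  haveI : UniversallyOpen g := inferInstance
  obtain ⟨V'' : (g ⁻¹ᵁ V).toScheme.Opens, hV'', hVim⟩ :=
    (g ∣_ V).isOpenMap.exists_opens_image_eq_of_prespectralSpace (g ∣_ V).continuous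
      (by
        haveI : Surjective (g ∣_ V) := IsZariskiLocalAtTarget.restrict ‹Surjective g› V
        simp [(g ∣_ V).surjective.range_eq]) isOpen_univ
      (haveI : CompactSpace V.toScheme := isCompact_iff_compactSpace.1 hV.isCompact; isCompact_univ)
  haveI : CompactSpace V''.toScheme := isCompact_iff_compactSpace.1 hV''
  obtain ⟨W, p, hp, hpl, hW⟩ := V''.toScheme.exists_hom_isAffine_of_isZariskiLocalAtSource @IsLocalIso
  haveI : Flat p := IsLocalIso.le_of_isZariskiLocalAtSource @Flat _ _ _ hpl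
  haveI : LocallyOfFiniteType p := IsLocalIso.le_of_isZariskiLocalAtSource @LocallyOfFiniteType _ _ _ hpl
  let q : W ⟶ Y' := p ≫ V''.ι ≫ (g ⁻¹ᵁ V).ι
  let w : W ⟶ V.toScheme := p ≫ V''.ι ≫ g ∣_ V
  have hwq : w ≫ V.ι = q ≫ g := by simp [w, q, morphismRestrict_ι]
  haveI : Flat (g ∣_ V) := IsZariskiLocalAtTarget.restrict ‹Flat g› V
  haveI : Flat w := by unfold w; infer_instance
  haveI : Surjective w := ⟨fun v => by
    obtain ⟨v', hv', hvv'⟩ := hVim.ge (Set.mem_univ v)
    obtain ⟨a, ha⟩ := p.surjective ⟨v', hv'⟩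
    refine ⟨a, ?_⟩
    simp only [w, Scheme.Hom.comp_apply, ha]
    exact hvv'⟩
  have hsq : IsPullback (pullback.fst f' q ≫ g') (pullback.snd f' q) f (q ≫ g) :=
    (IsPullback.of_hasPullback f' q).paste_horiz hc
  have h1 : Mor Q (pullback.snd f (q ≫ g)) := by
    have h := mor_baseChange hQ (IsPullback.of_hasPullback f' q) hf'
    rwa [show pullback.snd f' q = hsq.isoPullback.hom ≫ pullback.snd f (q ≫ g) from
      hsq.isoPullback_hom_snd.symm, MorphismProperty.cancel_left_of_respectsIso (Mor Q)] at h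
  let φ : Γ(Y, V) ⟶ Γ(W, ⊤) := Spec.preimage (W.isoSpec.inv ≫ w ≫ hV.isoSpec.hom)
  have hφ : Spec.map φ = W.isoSpec.inv ≫ w ≫ hV.isoSpec.hom := Spec.map_preimage _
  have hff : φ.hom.FaithfullyFlat := by
    haveI : Flat (Spec.map φ) := by rw [hφ]; infer_instance
    haveI : Surjective (Spec.map φ) := by rw [hφ]; infer_instance
    exact RingHom.FaithfullyFlat.iff_flat_and_comap_surjective.2
      ⟨(HasRingHomProperty.Spec_iff (P := @Flat)).1 inferInstance, (Spec.map φ).surjective⟩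
  letI : Algebra Γ(Y, V) Γ(W, ⊤) := φ.hom.toAlgebra
  haveI : Module.FaithfullyFlat Γ(Y, V) Γ(W, ⊤) := hff
  letI := (f.appLE V U e).hom.toAlgebra
  have sq' : W.isoSpec.inv ≫ q ≫ g = Spec.map (CommRingCat.ofHom (algebraMap Γ(Y, V) Γ(W, ⊤))) ≫ hV.fromSpec := by
    show _ = Spec.map φ ≫ hV.fromSpec
    rw [hφ, ← hwq]
    simp
  obtain ⟨j, hj, hjs, -⟩ := chart_pullback f (q ≫ g) hV.fromSpec hU.fromSpec
    (IsAffineOpen.SpecMap_appLE_fromSpec f hV hU e).symm Γ(W, ⊤) W.isoSpec.inv sq'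
  exact descend hQ Γ(W, ⊤) (fp_chart hQ h1 W.isoSpec.inv j hjs)

/-- fppf-locality of the property. -/
theorem mor_iff_of_fppf {X Y X' Y' : Scheme.{u}} {f : X ⟶ Y} {f' : X' ⟶ Y'} {g' : X' ⟶ X} {g : Y' ⟶ Y}
    [Flat g] [LocallyOfFinitePresentation g] [Surjective g] (hc : IsPullback g' f' f g) :
    Mor Q f ↔ Mor Q f' :=
  ⟨mor_baseChange hQ hc, mor_descend hQ hc⟩

omit hQ

/-- Locally Noetherian fibres and normal charts. -/
theorem normal_iff {X Y : Scheme.{u}} (f : X ⟶ Y) :
    ((∀ y : Y, IsLocallyNoetherian (f.fiber y)) ∧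
      (∀ (U : X.Opens) (V : Y.Opens) (_ : IsAffineOpen U) (_ : IsAffineOpen V) (e : U ≤ f ⁻¹ᵁ V),
        letI := (f.appLE V U e).hom.toAlgebra
        EGA4.IsNormalHom Γ(Y, V) Γ(X, U))) ↔ Mor QNormal f := by
  constructor
  · rintro ⟨hN, h⟩
    have hn : Mor QNoeth f := by
      refine (mor_iff_fibres isFibreProp_noeth f).2 ⟨(flat_iff f).2 fun U V hU hV e => (h U V hU hV e).1, ?_⟩
      intro y W hW
      letI : Algebra ↑(Y.residueField y) ↑Γ(f.fiber y, W) := ((Scheme.ΓSpecIso (Y.residueField y)).inv ≫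
        (f.fiberToSpecResidueField y).appTop ≫ (f.fiber y).presheaf.map (homOfLE le_top).op).hom.toAlgebra
      intro K _ _ hK
      haveI := hN y
      haveI : IsNoetherianRing ↑Γ(f.fiber y, W) := IsLocallyNoetherian.component_noetherian ⟨W, hW⟩
      exact noetherian_up
    refine (mor_iff f).2 fun U V hU hV e => ?_
    letI := (f.appLE V U e).hom.toAlgebra
    refine ⟨(h U V hU hV e).1, fun K _ _ hK => ⟨((mor_iff f).1 hn U V hU hV e).2 K hK, ?_⟩⟩
    refine (fp_reg_iff.fibre_up isFibreProp_normal K hK fun p _ k' _ _ hk => ⟨?_, (h U V hU hV e).2 p k' hk⟩).2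
    letI := Algebra.compHom k' (algebraMap Γ(Y, V) p.ResidueField)
    haveI : IsScalarTower Γ(Y, V) p.ResidueField k' := IsScalarTower.of_algebraMap_eq fun _ => rfl
    haveI : Algebra.EssFiniteType Γ(Y, V) p.ResidueField := essFiniteType_residueField p
    exact isFibreProp_noeth.iso _ _ (Algebra.TensorProduct.cancelBaseChange Γ(Y, V) p.ResidueField k' k'
      Γ(X, U)).symm.toRingEquiv (((mor_iff f).1 hn U V hU hV e).2 k' (Algebra.EssFiniteType.comp _ p.ResidueField k'))
  · intro hf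
    refine ⟨fun y => ?_, fun U V hU hV e => ?_⟩
    · refine isLocallyNoetherian_of_affine_cover (S := fun W : (f.fiber y).affineOpens => W)
        (iSup_affineOpens_eq_top _) fun W => ?_
      letI : Algebra ↑(Y.residueField y) ↑Γ(f.fiber y, W.1) := ((Scheme.ΓSpecIso (Y.residueField y)).inv ≫
        (f.fiberToSpecResidueField y).appTop ≫ (f.fiber y).presheaf.map (homOfLE le_top).op).hom.toAlgebra
      exact noetherian_self ((((mor_iff_fibres isFibreProp_normal f).1 hf).2 y W.1 W.2)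
        (Y.residueField y) inferInstance).1
    letI := (f.appLE V U e).hom.toAlgebra
    obtain ⟨h1, h2⟩ := (mor_iff f).1 hf U V hU hV e
    refine ⟨h1, fun p _ k' _ _ hk => ?_⟩
    letI := Algebra.compHom k' (algebraMap Γ(Y, V) p.ResidueField)
    haveI : IsScalarTower Γ(Y, V) p.ResidueField k' := IsScalarTower.of_algebraMap_eq fun _ => rfl
    haveI : Algebra.EssFiniteType Γ(Y, V) p.ResidueField := essFiniteType_residueField p
    exact (isFibreProp_normal.iso _ _ (Algebra.TensorProduct.cancelBaseChange Γ(Y, V) p.ResidueField k' k'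
      Γ(X, U)).symm.toRingEquiv (h2 k' (Algebra.EssFiniteType.comp _ p.ResidueField k'))).2
where
  essFiniteType_residueField {A : Type u} [CommRing A] (p : Ideal A) [p.IsPrime] :
      Algebra.EssFiniteType A p.ResidueField := by
    haveI : Algebra.EssFiniteType (A ⧸ p) p.ResidueField :=
      Algebra.EssFiniteType.of_isLocalization _ (nonZeroDivisors (A ⧸ p))
    exact Algebra.EssFiniteType.comp A (A ⧸ p) p.ResidueField

/-- Regular charts. -/
theorem regular_iff {X Y : Scheme.{u}} (f : X ⟶ Y) :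
    (∀ (U : X.Opens) (V : Y.Opens) (_ : IsAffineOpen U) (_ : IsAffineOpen V) (e : U ≤ f ⁻¹ᵁ V),
        letI := (f.appLE V U e).hom.toAlgebra
        CAlg.IsRegularHom Γ(Y, V) Γ(X, U)) ↔ Mor QReg f := by
  rw [mor_iff]
  refine forall₂_congr fun U V => forall_congr' fun hU => forall₂_congr fun hV e => ?_
  letI := (f.appLE V U e).hom.toAlgebra
  exact (fp_reg_iff _ _).symm

/-- The fibres of a regular morphism are locally Noetherian. -/
theorem locallyNoetherian_fiber {X Y : Scheme.{u}} {f : X ⟶ Y} (hf : Mor QReg f) (y : Y) :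
    IsLocallyNoetherian (f.fiber y) := by
  refine isLocallyNoetherian_of_affine_cover (S := fun W : (f.fiber y).affineOpens => W)
    (iSup_affineOpens_eq_top _) fun W => ?_
  letI : Algebra ↑(Y.residueField y) ↑Γ(f.fiber y, W.1) := ((Scheme.ΓSpecIso (Y.residueField y)).inv ≫
    (f.fiberToSpecResidueField y).appTop ≫ (f.fiber y).presheaf.map (homOfLE le_top).op).hom.toAlgebra
  haveI : IsRegularRing (↑(Y.residueField y) ⊗[↑(Y.residueField y)] ↑Γ(f.fiber y, W.1)) :=
    ((mor_iff_fibres isFibreProp_reg f).1 hf).2 y W.1 W.2 (Y.residueField y) inferInstance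
  exact noetherian_self (k := ↑(Y.residueField y)) inferInstance

end Groth.Agent.Fibres16.FibMor
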